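import Groth.Agent.L21.Tsen.Norm
import Mathlib.RepresentationTheory.Homological.GroupCohomology.Hilbert90
import Mathlib.GroupTheory.Sylow
import Mathlib.GroupTheory.IndexNormal
import Mathlib.GroupTheory.OrderOfElement
import Mathlib.FieldTheory.Galois.Basic
import Mathlib.RingTheory.Norm.Transitivity

/-!
# The norm of a Galois extension of a `C₁` field: surjectivity, and `Ĥ⁻¹ = 0`
-/

set_option autoImplicit false

open Groth.L21.Tsen
open _root_.Curves (IsCr)

namespace Groth.L11.GalNorm

universe u v

/-- Over a `C₁` field every norm map of a finite extension is surjective. -/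
theorem norm_surjective (K : Type u) (L : Type u) [Field K] [Field L] [Algebra K L]
    [FiniteDimensional K L] (hK : IsCr K 1) : Function.Surjective (Algebra.norm K : L → K) := by
  classical
  intro a
  rcases eq_or_ne a 0 with rfl | ha
  · exact ⟨0, Algebra.norm_zero⟩
  set d := Module.finrank K L
  have hd : 0 < d := Module.finrank_pos
  set b := Module.finBasis K L
  let M : Matrix (Fin d) (Fin d) (MvPolynomial (Fin (d + 1)) K) :=
    Matrix.of fun i j => ∑ l : Fin d, MvPolynomial.C (Algebra.leftMulMatrix b (b l) i j) *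
      MvPolynomial.X l.castSucc
  have hM : ∀ i j, (M i j).IsHomogeneous 1 := fun i j => by
    simp only [M, Matrix.of_apply]
    exact MvPolynomial.IsHomogeneous.sum _ _ _ fun l _ =>
      (MvPolynomial.isHomogeneous_X _ _).C_mul _
  have hdet := isHomogeneous_det M hM
  rw [Fintype.card_fin, mul_one] at hdet
  have hF : (M.det - MvPolynomial.C a * (MvPolynomial.X (Fin.last d)) ^ d).IsHomogeneous d :=
    hdet.sub (MvPolynomial.isHomogeneous_C_mul_X_pow a (Fin.last d) d)
  obtain ⟨x, hx, hx0⟩ := hK (d + 1) d _ hF hd (by rw [pow_one]; exact Nat.lt_succ_self d)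
  set y := ∑ l : Fin d, x l.castSucc • b l with hy
  have hN : Algebra.norm K y = a * x (Fin.last d) ^ d := by
    rw [map_sub, map_mul, map_pow, MvPolynomial.eval_C, MvPolynomial.eval_X, sub_eq_zero] at hx0
    rw [← hx0, Algebra.norm_eq_matrix_det b, RingHom.map_det]
    congr 1
    ext i j
    simp [hy, M, Matrix.sum_apply, mul_comm]
  have hlast : x (Fin.last d) ≠ 0 := fun h => hx <| by
    have hy0 : y = 0 := by
      rw [h, zero_pow hd.ne', mul_zero, Algebra.norm_eq_zero_iff] at hN
      exact hN
    have := Fintype.linearIndependent_iff.1 b.linearIndependent (fun l => x l.castSucc) (hy ▸ hy0)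
    funext i
    induction i using Fin.lastCases with
    | last => simpa using h
    | cast i => simpa using this i
  refine ⟨(x (Fin.last d))⁻¹ • y, ?_⟩
  rw [Algebra.smul_def, map_mul, Algebra.norm_algebraMap, hN, inv_pow, mul_comm a, ← mul_assoc,
    inv_mul_cancel₀ (pow_ne_zero _ hlast), one_mul]

section

variable (K : Type u) (L : Type u) [Field K] [Field L] [Algebra K L]

/-- The subgroup generated by the `w / g w`. -/
def I : Subgroup Lˣ :=
  Subgroup.closure {v : Lˣ | ∃ (w : Lˣ) (g : L ≃ₐ[K] L), (v : L) = (w : L) / g (w : L)}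

variable {K L}

/-- Hilbert 90 for cyclic extensions, in any universe. -/
theorem cyclic90 [FiniteDimensional K L] [IsGalois K L] {σ : L ≃ₐ[K] L}
    (hσ : ∀ g, g ∈ Subgroup.zpowers σ) {e : L} (he : Algebra.norm K e = 1) :
    ∃ w : Lˣ, e = (w : L) / σ (w : L) := by
  classical
  let n := orderOf σ
  have hn : Nat.card (L ≃ₐ[K] L) = n := (orderOf_eq_card_of_forall_mem_zpowers hσ).symm
  have hn0 : 0 < n := orderOf_pos σ
  have hinj : Function.Injective (fun j : Fin n => σ ^ (j : ℕ)) := fun a b h =>
    Fin.ext (pow_injOn_Iio_orderOf a.2 b.2 h)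
  let P : ℕ → L := fun j => ∏ i ∈ Finset.range j, (σ ^ i) e
  have hPn : P n = 1 := by
    rw [← map_one (algebraMap K L), ← he, Algebra.norm_eq_prod_automorphisms]
    show ∏ i ∈ Finset.range n, (σ ^ i) e = _
    rw [← Fin.prod_univ_eq_prod_range (fun i => (σ ^ i) e) n]
    exact Fintype.prod_bijective _ ((Fintype.bijective_iff_injective_and_card _).2
      ⟨hinj, by rw [Fintype.card_fin, ← hn, Nat.card_eq_fintype_card]⟩) _ _ fun _ => rfl
  have hP : ∀ j, σ (P j) * e = P (j + 1) := fun j => by
    simp only [P, map_prod, Finset.prod_range_succ' _ j, pow_zero, AlgEquiv.one_apply]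
    congr 1
    exact Finset.prod_congr rfl fun i _ => by rw [pow_succ', AlgEquiv.mul_apply]
  obtain ⟨c, hc⟩ : ∃ c : L, ∑ j ∈ Finset.range n, P j * (σ ^ j) c ≠ 0 := by
    by_contra h
    push Not at h
    have hli := LinearIndependent.comp (linearIndependent_monoidHom L L)
      (fun j : Fin n => (MonoidHomClass.toMonoidHom (σ ^ (j : ℕ)) : L →* L))
      (fun a b hab => hinj (AlgEquiv.ext fun y => DFunLike.congr_fun hab y))
    have := Fintype.linearIndependent_iff.1 hli (fun j => P j) (funext fun c => by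
      rw [Finset.sum_apply]
      exact (Fin.sum_univ_eq_sum_range (fun j => P j * (σ ^ j) c) n).trans (h c)) ⟨0, hn0⟩
    simp [P] at this
  set T := ∑ j ∈ Finset.range n, P j * (σ ^ j) c with hT
  refine ⟨Units.mk0 T hc, ?_⟩
  have hshift : σ T * e = T := by
    have h1 : σ T * e = ∑ j ∈ Finset.range n, P (j + 1) * (σ ^ (j + 1)) c := by
      rw [hT, map_sum, Finset.sum_mul]
      refine Finset.sum_congr rfl fun j _ => ?_
      rw [map_mul, mul_right_comm, hP, pow_succ', AlgEquiv.mul_apply]
    have h2 := Finset.sum_range_succ' (fun j => P j * (σ ^ j) c) n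
    rw [Finset.sum_range_succ, hPn, pow_orderOf_eq_one] at h2
    simp only [P, Finset.range_zero, Finset.prod_empty, pow_zero] at h2
    rw [h1]
    exact (add_right_cancel h2).symm
  have hσT : σ T ≠ 0 := by simpa using hc
  rw [Units.val_mk0, eq_div_iff hσT, mul_comm]
  exact hshift


lemma div_mem (w : Lˣ) (g : L ≃ₐ[K] L) : w / Units.map (g : L →* L) w ∈ I K L :=
  Subgroup.subset_closure ⟨w, g, by simp [Units.val_div_eq_div_val]⟩

lemma I_le_of_tower (E : Type u) [Field E] [Algebra K E] [Algebra E L] [IsScalarTower K E L] :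
    I E L ≤ I K L :=
  (Subgroup.closure_le _).2 fun _ ⟨w, g, hv⟩ => Subgroup.subset_closure ⟨w, g.restrictScalars K, hv⟩

lemma norm_eq_one_of_mem [FiniteDimensional K L] {u : Lˣ} (hu : u ∈ I K L) :
    Algebra.norm K (u : L) = 1 := by
  induction hu using Subgroup.closure_induction with
  | mem v hv =>
    obtain ⟨w, g, hv⟩ := hv
    rw [hv, div_eq_mul_inv, map_mul, Algebra.norm_inv, Algebra.norm_eq_of_algEquiv g (w : L),
      mul_inv_cancel₀ (Algebra.norm_ne_zero_iff.2 w.ne_zero)]
  | one => simp
  | mul a b _ _ ha hb => simp [ha, hb]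
  | inv a _ ha => rw [Units.val_inv_eq_inv_val, Algebra.norm_inv, ha, inv_one]

end

theorem mem_I_of_isPGroup {p : ℕ} [Fact p.Prime] : ∀ (n : ℕ) (K : Type u) (L : Type u) [Field K]
    [Field L] [Algebra K L] [FiniteDimensional K L] [IsGalois K L], IsCr K 1 →
    Nat.card (L ≃ₐ[K] L) = p ^ n → ∀ u : Lˣ, Algebra.norm K (u : L) = 1 → u ∈ I K L
  | 0, K, L, _, _, _, _, _, _, hcard, u, hu => by
    rw [pow_zero, IsGalois.card_aut_eq_finrank] at hcard
    have h1 : u = 1 := by
      obtain ⟨c, hc⟩ := exists_smul_eq_of_finrank_eq_one hcard one_ne_zero (u : L)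
      rw [← Algebra.algebraMap_eq_smul_one] at hc
      rw [← hc, Algebra.norm_algebraMap, hcard, pow_one] at hu
      exact Units.ext (by rw [← hc, hu, map_one, Units.val_one])
    exact h1 ▸ one_mem _
  | n + 1, K, L, _, _, _, _, _, hK, hcard, u, hu => by
    classical
    obtain ⟨C, hC⟩ := Sylow.exists_subgroup_card_pow_prime (G := L ≃ₐ[K] L) p (n := n)
      (hcard ▸ pow_dvd_pow p n.le_succ)
    have hidx : C.index = p := by
      have h := C.card_mul_index
      rw [hC, hcard, pow_succ] at h
      exact Nat.eq_of_mul_eq_mul_left (pow_pos (Fact.out (p := p.Prime)).pos n) h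
    haveI : C.Normal := Subgroup.normal_of_index_eq_minFac_card (by
      rw [hidx, hcard, Nat.pow_minFac (Nat.succ_ne_zero n), (Fact.out (p := p.Prime)).minFac_eq])
    let E : IntermediateField K L := IntermediateField.fixedField C
    haveI : IsGalois K E := IsGalois.of_fixedField_normal_subgroup C
    have hE : IsCr E 1 := isCr_one_of_finite K E hK
    have hcardE : Nat.card (E ≃ₐ[K] E) = p := by
      rw [← hidx, Subgroup.index_eq_card]
      exact (Nat.card_congr (IsGalois.normalAutEquivQuotient C).toEquiv).symm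
    haveI : IsCyclic (E ≃ₐ[K] E) := isCyclic_of_prime_card hcardE
    obtain ⟨σ, hσ⟩ := IsCyclic.exists_generator (α := E ≃ₐ[K] E)
    have heN : Algebra.norm K (Algebra.norm E (u : L)) = 1 := by rw [Algebra.norm_norm, hu]
    obtain ⟨w, hw⟩ := cyclic90 hσ heN
    obtain ⟨z, hz⟩ := norm_surjective E L hE (w : E)
    have hz0 : z ≠ 0 := fun h => w.ne_zero (by rw [← hz, h, Algebra.norm_zero])
    let zu : Lˣ := Units.mk0 z hz0
    let τ : L ≃ₐ[K] L := σ.liftNormal L
    have hcardL : Nat.card (L ≃ₐ[E] L) = p ^ n := by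
      rw [IsGalois.card_aut_eq_finrank, IntermediateField.finrank_fixedField_eq_card, hC]
    have hτE : ∀ e : E, τ (algebraMap E L e) = algebraMap E L (σ e) := fun e =>
      AlgEquiv.liftNormal_commutes σ L e
    have hnorm : Algebra.norm E (τ z) = σ (Algebra.norm E z) := by
      have h := Algebra.norm_eq_of_equiv_equiv (A₁ := E) (B₁ := L) (A₂ := E) (B₂ := L)
        σ.toRingEquiv τ.toRingEquiv (RingHom.ext fun e => (hτE e).symm) z
      rw [h, ← RingEquiv.symm_apply_eq] at *
      simp
    set u' : Lˣ := u / (zu / Units.map (τ : L →* L) zu) with hu'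
    have hu'N : Algebra.norm E (u' : L) = 1 := by
      have h1 : Algebra.norm E (u : L) = Algebra.norm E z / σ (Algebra.norm E z) := by rw [hz]; exact hw
      simp only [hu', Units.val_div_eq_div_val, Units.coe_map]
      simp only [div_eq_mul_inv, map_mul, Algebra.norm_inv]
      simp only [← div_eq_mul_inv]
      show Algebra.norm E (u : L) / (Algebra.norm E z / Algebra.norm E (τ z)) = 1
      rw [hnorm, ← h1]
      exact div_self (Algebra.norm_ne_zero_iff.2 u.ne_zero)
    have := I_le_of_tower (K := K) E (mem_I_of_isPGroup n E L hE hcardL u' hu'N)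
    have h2 := mul_mem this (div_mem zu τ)
    rwa [hu', div_mul_cancel] at h2

/-- `Ĥ⁻¹(Gal(L/K), Lˣ) = 0` for a `C₁` field `K`. -/
theorem mem_I_of_norm_eq_one (K : Type u) (L : Type u) [Field K] [Field L] [Algebra K L]
    [FiniteDimensional K L] [IsGalois K L] (hK : IsCr K 1) (u : Lˣ)
    (hu : Algebra.norm K (u : L) = 1) : u ∈ I K L := by
  classical
  let q : Lˣ →* Lˣ ⧸ I K L := QuotientGroup.mk' _
  rw [← QuotientGroup.eq_one_iff]
  have hkey : ∀ p, p.Prime → ∀ P : Sylow p (L ≃ₐ[K] L),
      (q u) ^ (P : Subgroup (L ≃ₐ[K] L)).index = 1 := by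
    intro p hp P
    haveI := Fact.mk hp
    obtain ⟨n, hn⟩ := IsPGroup.iff_card.1 P.isPGroup'
    let C : Subgroup (L ≃ₐ[K] L) := P
    let E : IntermediateField K L := IntermediateField.fixedField C
    have hE : IsCr E 1 := isCr_one_of_finite K E hK
    have hcardL : Nat.card (L ≃ₐ[E] L) = p ^ n := by
      rw [IsGalois.card_aut_eq_finrank, IntermediateField.finrank_fixedField_eq_card, hn]
    let r : (L ≃ₐ[K] L) ⧸ C → (L ≃ₐ[K] L) := fun x => x.out⁻¹
    let v : Lˣ := ∏ x : (L ≃ₐ[K] L) ⧸ C, Units.map ((r x : L ≃ₐ[K] L) : L →* L) u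
    have hv : Algebra.norm E (v : L) = 1 := by
      refine (algebraMap E L).injective ?_
      rw [Algebra.norm_eq_prod_automorphisms, map_one]
      simp only [v, Units.coe_prod, Units.coe_map, map_prod]
      rw [← Fintype.prod_prod_type']
      rw [← map_one (algebraMap K L), ← hu, Algebra.norm_eq_prod_automorphisms]
      refine Fintype.prod_bijective
        (fun x : (L ≃ₐ[E] L) × ((L ≃ₐ[K] L) ⧸ C) => x.1.restrictScalars K * r x.2) ?_ _ _
        (fun x => rfl)
      rw [Fintype.bijective_iff_injective_and_card]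
      refine ⟨fun x y hxy => ?_, ?_⟩
      · have hmem : ∀ g : L ≃ₐ[E] L, g.restrictScalars K ∈ C := fun g => by
          rw [← IntermediateField.fixingSubgroup_fixedField C]
          rintro ⟨e, he⟩
          exact g.commutes ⟨e, he⟩
        have h1 : (x.2.out : L ≃ₐ[K] L) ⁻¹ * y.2.out ∈ C := by
          have h : r x.2 = (x.1.restrictScalars K)⁻¹ * (y.1.restrictScalars K) * r y.2 := by
            have hxy' : x.1.restrictScalars K * r x.2 = y.1.restrictScalars K * r y.2 := hxy
            rw [mul_assoc, ← hxy', inv_mul_cancel_left]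
          have : r x.2 * (r y.2)⁻¹ ∈ C := by
            rw [h, mul_inv_cancel_right]; exact mul_mem (inv_mem (hmem _)) (hmem _)
          simpa [r] using this
        have h2 : x.2 = y.2 := by
          rw [← Quotient.out_eq x.2, ← Quotient.out_eq y.2]
          exact QuotientGroup.eq.2 h1
        have hxy' : x.1.restrictScalars K * r x.2 = y.1.restrictScalars K * r y.2 := hxy
        rw [h2] at hxy'
        exact Prod.ext (AlgEquiv.restrictScalars_injective K (mul_right_cancel hxy')) h2
      · rw [Fintype.card_prod, ← Nat.card_eq_fintype_card, ← Nat.card_eq_fintype_card,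
          ← Nat.card_eq_fintype_card, hcardL, ← hn]
        exact C.card_mul_index
    have hvI := I_le_of_tower (K := K) E (mem_I_of_isPGroup n E L hE hcardL v hv)
    have hqv : q v = (q u) ^ C.index := by
      rw [map_prod, Subgroup.index_eq_card, Nat.card_eq_fintype_card, ← Finset.card_univ]
      refine Eq.trans (Finset.prod_congr rfl fun x _ => (QuotientGroup.eq.2 ?_)) (Finset.prod_const (q u))
      rw [inv_mul_eq_div]
      exact div_mem u (r x)
    rw [← hqv]
    exact (QuotientGroup.eq_one_iff v).2 hvI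
  have hfin : orderOf (q u) ∣ 1 := by
    by_contra h
    have h' : orderOf (q u) ≠ 1 := fun e => h (e ▸ dvd_rfl)
    obtain ⟨p, hp, hpd⟩ := Nat.exists_prime_and_dvd h'
    haveI := Fact.mk hp
    have P : Sylow p (L ≃ₐ[K] L) := default
    exact P.not_dvd_index (hpd.trans (orderOf_dvd_of_pow_eq_one (hkey p hp P)))
  exact orderOf_eq_one_iff.1 (Nat.eq_one_of_dvd_one hfin)

end Groth.L11.GalNorm
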